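import Mathlib
import Cfsg.Prelude.Def_SylowChains

/-!
The graph on Sylow subgroups and the classical notion of a strongly `p`-embedded subgroup.
-/

set_option autoImplicit false

namespace Cfsg.Agent.Lib.SylowGraph

open Subgroup

variable {G : Type*} [Group G] {p : ℕ}

/-- `H` is proper, of order divisible by `p`, and meets its other conjugates in `p'`-subgroups. -/
def ClassicalSE (p : ℕ) (H : Subgroup G) : Prop :=
  H ≠ ⊤ ∧ p ∣ Nat.card H ∧
    ∀ g : G, g ∉ H → ¬ p ∣ Nat.card ↥(H ⊓ H.map (MulAut.conj g).toMonoidHom)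

/-- Two Sylow subgroups are adjacent. -/
def Adj (S T : Sylow p G) : Prop :=
  S ≠ T ∧ (S : Subgroup G) ⊓ (T : Subgroup G) ≠ ⊥

/-- The connectedness relation of the graph. -/
def Linked (S T : Sylow p G) : Prop := Relation.ReflTransGen Adj S T

theorem Adj.symm {S T : Sylow p G} (h : Adj S T) : Adj T S :=
  ⟨h.1.symm, by rw [inf_comm]; exact h.2⟩

theorem Linked.symm {S T : Sylow p G} (h : Linked S T) : Linked T S := by
  induction h with
  | refl => exact Relation.ReflTransGen.refl
  | tail _ hab ih => exact Relation.ReflTransGen.head hab.symm ih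

theorem Linked.trans {R S T : Sylow p G} (h : Linked R S) (h' : Linked S T) : Linked R T :=
  Relation.ReflTransGen.trans h h'

theorem Adj.smul {S T : Sylow p G} (h : Adj S T) (g : G) : Adj (g • S) (g • T) := by
  refine ⟨fun e => h.1 (smul_left_cancel g e), fun e => h.2 ?_⟩
  rw [eq_bot_iff]
  intro x hx
  have hS : g * x * g⁻¹ ∈ ((g • S : Sylow p G) : Subgroup G) := by
    rw [Sylow.coe_subgroup_smul]
    exact Subgroup.smul_mem_pointwise_smul x (MulAut.conj g) _ hx.1
  have hT : g * x * g⁻¹ ∈ ((g • T : Sylow p G) : Subgroup G) := by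
    rw [Sylow.coe_subgroup_smul]
    exact Subgroup.smul_mem_pointwise_smul x (MulAut.conj g) _ hx.2
  have : g * x * g⁻¹ ∈ (⊥ : Subgroup G) := e ▸ ⟨hS, hT⟩
  exact mem_bot.2 (conj_eq_one_iff.1 (mem_bot.1 this))

theorem Linked.smul {S T : Sylow p G} (h : Linked S T) (g : G) : Linked (g • S) (g • T) :=
  by
  induction h with
  | refl => exact Relation.ReflTransGen.refl
  | tail _ hab ih => exact ih.tail (hab.smul g)

theorem linked_of_inf_ne_bot {S T : Sylow p G}
    (h : (S : Subgroup G) ⊓ (T : Subgroup G) ≠ ⊥) : Linked S T := by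
  by_cases hST : S = T
  · exact hST ▸ Relation.ReflTransGen.refl
  · exact Relation.ReflTransGen.single ⟨hST, h⟩

theorem linked_of_mem {S T : Sylow p G} {x : G} (hx1 : x ≠ 1) (hS : x ∈ (S : Subgroup G))
    (hT : x ∈ (T : Subgroup G)) : Linked S T :=
  linked_of_inf_ne_bot fun e => hx1 (mem_bot.1 (e ▸ mem_inf.2 ⟨hS, hT⟩))

theorem linked_of_connected (h : Cfsg.IsSylowChainConnected p G) (S T : Sylow p G) :
    Linked S T := by
  obtain ⟨n, c, h0, hl, -, hadj⟩ := h S T
  have : ∀ i : Fin (n + 1), Linked (c 0) (c i) := fun i => by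
    induction i using Fin.induction with
    | zero => exact Relation.ReflTransGen.refl
    | succ i ih => exact ih.tail (hadj i)
  rw [← h0, ← hl]
  exact this _

theorem connected_of_linked (h : ∀ S T : Sylow p G, Linked S T) :
    Cfsg.IsSylowChainConnected p G := by
  intro S T
  by_cases hST : S = T
  · refine ⟨0, fun _ => S, rfl, hST, fun _ => inf_le_left, fun i => i.elim0⟩
  by_cases hI : (S : Subgroup G) ⊓ (T : Subgroup G) = ⊥
  · have key : ∀ T' : Sylow p G, Linked S T' → ∃ (n : ℕ) (c : Fin (n + 1) → Sylow p G),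
        c 0 = S ∧ c (Fin.last n) = T' ∧
        ∀ i : Fin n, c i.castSucc ≠ c i.succ ∧
          (c i.castSucc : Subgroup G) ⊓ (c i.succ : Subgroup G) ≠ ⊥ := by
      intro T' hT'
      induction hT' with
      | refl => exact ⟨0, fun _ => S, rfl, rfl, fun i => i.elim0⟩
      | @tail U V _ hUV ih =>
        obtain ⟨n, c, h0, hl, hc⟩ := ih
        refine ⟨n + 1, Fin.snoc c V, ?_, Fin.snoc_last _ _, fun i => ?_⟩
        · rw [show (0 : Fin (n + 2)) = Fin.castSucc (0 : Fin (n + 1)) from rfl,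
            Fin.snoc_castSucc, h0]
        · induction i using Fin.lastCases with
          | last =>
            rw [Fin.snoc_castSucc, hl, Fin.succ_last, Fin.snoc_last]
            exact hUV
          | cast j =>
            rw [Fin.snoc_castSucc, Fin.succ_castSucc, Fin.snoc_castSucc]
            exact hc j
    obtain ⟨n, c, h0, hl, hc⟩ := key T (h S T)
    exact ⟨n, c, h0, hl, fun i => hI ▸ bot_le, hc⟩
  · refine ⟨1, ![S, T], rfl, rfl, fun i => ?_, fun i => ?_⟩
    · fin_cases i
      · exact inf_le_left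
      · exact inf_le_right
    · fin_cases i
      exact ⟨hST, hI⟩

variable [Finite G] [hp : Fact p.Prime] {H : Subgroup G}

theorem ClassicalSE.mem_of_common (hH : ClassicalSE p H) {x g : G} (hx : x ∈ H)
    (hxg : g⁻¹ * x * g ∈ H) (hord : orderOf x = p) : g ∈ H := by
  by_contra hg
  refine hH.2.2 g hg ?_
  rw [← hord]
  have hmem : x ∈ H ⊓ H.map (MulAut.conj g).toMonoidHom :=
    ⟨hx, ⟨g⁻¹ * x * g, hxg, by simp [mul_assoc]⟩⟩
  have := orderOf_dvd_natCard (⟨x, hmem⟩ : ↥(H ⊓ H.map (MulAut.conj g).toMonoidHom))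
  rwa [← Subgroup.orderOf_coe] at this

omit [Finite G] in
theorem exists_orderOf_mem {Q : Subgroup G} [Finite Q] (hQ : IsPGroup p Q) (hQ1 : Q ≠ ⊥) :
    ∃ x ∈ Q, orderOf x = p := by
  haveI : Nontrivial Q := (nontrivial_iff_ne_bot _).2 hQ1
  obtain ⟨k, hk, hc⟩ := hQ.nontrivial_iff_card.1 inferInstance
  obtain ⟨x, hx⟩ := exists_prime_orderOf_dvd_card' (G := Q) p (hc ▸ dvd_pow_self p hk.ne')
  exact ⟨x, x.2, by rw [Subgroup.orderOf_coe]; exact hx⟩

theorem ClassicalSE.normalizer_le (hH : ClassicalSE p H) {Q : Subgroup G} (hQ : IsPGroup p Q)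
    (hQ1 : Q ≠ ⊥) (hQH : Q ≤ H) : normalizer (Q : Set G) ≤ H := by
  intro g hg
  obtain ⟨x, hx, hxo⟩ := exists_orderOf_mem hQ hQ1
  refine hH.mem_of_common (hQH hx) (hQH ?_) hxo
  exact (mem_normalizer_iff.1 hg _).2 (by simpa [mul_assoc] using hx)

theorem ClassicalSE.centralizer_le (hH : ClassicalSE p H) {x : G} (hx : x ∈ H)
    (hord : orderOf x = p) : centralizer ({x} : Set G) ≤ H := by
  intro g hg
  refine hH.mem_of_common hx ?_ hord
  have := mem_centralizer_singleton_iff.1 hg
  rwa [mul_assoc, ← this, inv_mul_cancel_left]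

theorem ClassicalSE.exists_sylow_le (hH : ClassicalSE p H) :
    ∃ S : Sylow p G, (S : Subgroup G) ≤ H := by
  obtain ⟨Q⟩ := (inferInstance : Nonempty (Sylow p H))
  have hQ1 : (Q : Subgroup H).map H.subtype ≠ ⊥ := by
    rw [Ne, map_eq_bot_iff_of_injective _ H.subtype_injective]
    exact Q.ne_bot_of_dvd_card hH.2.1
  have hQp : IsPGroup p ((Q : Subgroup H).map H.subtype) := Q.2.map _
  obtain ⟨S, hS⟩ := hQp.exists_le_sylow
  refine ⟨S, ?_⟩
  have hQn : normalizer (((Q : Subgroup H).map H.subtype : Subgroup G) : Set G) ≤ H :=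
    hH.normalizer_le hQp hQ1 (map_subtype_le _)
  suffices (Q : Subgroup H).map H.subtype = (S : Subgroup G) from this ▸ map_subtype_le _
  by_contra hne
  haveI := S.2.isNilpotent
  have hlt : ((Q : Subgroup H).map H.subtype).subgroupOf (S : Subgroup G) < ⊤ :=
    lt_top_iff_ne_top.2 fun e => hne (le_antisymm hS (subgroupOf_eq_top.1 e))
  have hgt := Group.normalizerCondition_of_isNilpotent (G := (S : Subgroup G)) _ hlt
  obtain ⟨y, hy, hyn⟩ := SetLike.exists_of_lt hgt
  have hyG : (y : G) ∈ normalizer (((Q : Subgroup H).map H.subtype : Subgroup G) : Set G) := by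
    rw [← subgroupOf_normalizer_eq hS] at hy
    exact hy
  have hmax := Q.is_maximal' (Q := ((S : Subgroup G).subgroupOf H)) (S.2.comap_subtype) (fun z hz =>
    hS ⟨z, hz, rfl⟩)
  apply hyn
  have : (⟨y, hQn hyG⟩ : H) ∈ (Q : Subgroup H) := hmax ▸ (y.2 : (y : G) ∈ (S : Subgroup G))
  exact ⟨_, this, rfl⟩

theorem ClassicalSE.le_of_inf_ne_bot (hH : ClassicalSE p H) {S T : Sylow p G}
    (hS : (S : Subgroup G) ≤ H) (h : (S : Subgroup G) ⊓ (T : Subgroup G) ≠ ⊥) :
    (T : Subgroup G) ≤ H := by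
  obtain ⟨g, rfl⟩ := MulAction.exists_smul_eq G S T
  obtain ⟨x, hx, hxo⟩ := exists_orderOf_mem (p := p) (S.2.to_le inf_le_left) h
  have hxg : g⁻¹ * x * g ∈ (S : Subgroup G) := by
    have : x ∈ ((g • S : Sylow p G) : Subgroup G) := hx.2
    rw [Sylow.coe_subgroup_smul, mem_pointwise_smul_iff_inv_smul_mem] at this
    simpa [← map_inv] using this
  have hg := hH.mem_of_common (hS hx.1) (hS hxg) hxo
  rw [Sylow.coe_subgroup_smul]
  intro y hy
  rw [mem_pointwise_smul_iff_inv_smul_mem] at hy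
  have hy' : g⁻¹ * y * g ∈ H := hS (by simpa [← map_inv] using hy)
  simpa [mul_assoc] using H.mul_mem (H.mul_mem hg hy') (H.inv_mem hg)

theorem ClassicalSE.exists_sylow_not_le (hH : ClassicalSE p H) :
    ∃ T : Sylow p G, ¬ (T : Subgroup G) ≤ H := by
  obtain ⟨S, hS⟩ := hH.exists_sylow_le
  by_contra hall
  push Not at hall
  refine hH.1 (eq_top_iff.2 fun g _ => ?_)
  have hS1 : (S : Subgroup G) ≠ ⊥ := S.ne_bot_of_dvd_card (hH.2.1.trans (card_subgroup_dvd_card H))
  obtain ⟨x, hx, hxo⟩ := exists_orderOf_mem (p := p) S.2 hS1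
  refine hH.mem_of_common (hS hx) (hall (g⁻¹ • S) ?_) hxo
  rw [Sylow.coe_subgroup_smul, mem_pointwise_smul_iff_inv_smul_mem]
  simpa [← map_inv, mul_assoc] using hx

theorem ClassicalSE.not_connected (hH : ClassicalSE p H) : ¬ Cfsg.IsSylowChainConnected p G := by
  intro hc
  obtain ⟨S, hS⟩ := hH.exists_sylow_le
  obtain ⟨T, hT⟩ := hH.exists_sylow_not_le
  apply hT
  have h := linked_of_connected hc S T
  clear hT
  induction h with
  | refl => exact hS
  | tail _ hab ih => exact hH.le_of_inf_ne_bot ih hab.2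

/-- The stabilizer of the component of `S`. -/
def compStab (S : Sylow p G) : Subgroup G where
  carrier := {g | Linked S (g • S)}
  one_mem' := by simp only [Set.mem_setOf_eq, one_smul]; exact Relation.ReflTransGen.refl
  mul_mem' := fun {a b} ha hb => by
    simp only [Set.mem_setOf_eq] at ha hb ⊢
    rw [mul_smul]
    exact ha.trans (hb.smul a)
  inv_mem' := fun {a} ha => by
    simp only [Set.mem_setOf_eq] at ha ⊢
    have := (ha.smul a⁻¹).symm
    rwa [inv_smul_smul] at this

theorem exists_classicalSE (h : ¬ Cfsg.IsSylowChainConnected p G) :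
    ∃ H : Subgroup G, ClassicalSE p H := by
  obtain ⟨S⟩ := (inferInstance : Nonempty (Sylow p G))
  have hS1 : (S : Subgroup G) ≠ ⊥ := by
    intro e
    apply h
    refine connected_of_linked fun T U => ?_
    have : ∀ V : Sylow p G, V = S := fun V => Sylow.ext (by
      obtain ⟨g, rfl⟩ := MulAction.exists_smul_eq G S V
      rw [Sylow.coe_subgroup_smul, e, Subgroup.smul_bot])
    rw [this T, this U]
    exact Relation.ReflTransGen.refl
  have hle : (S : Subgroup G) ≤ compStab S := fun s hs => by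
    show Linked S (s • S)
    rw [Sylow.smul_eq_iff_mem_normalizer.2 (le_normalizer hs)]
    exact Relation.ReflTransGen.refl
  refine ⟨compStab S, fun e => h (connected_of_linked fun T U => ?_), ?_, fun g hg hdvd => hg ?_⟩
  · obtain ⟨a, rfl⟩ := MulAction.exists_smul_eq G S T
    obtain ⟨b, rfl⟩ := MulAction.exists_smul_eq G S U
    have h1 : ∀ c : G, Linked S (c • S) := fun c => (e ▸ mem_top c : c ∈ compStab S)
    exact (h1 a).symm.trans (h1 b)
  · obtain ⟨k, hk, hc⟩ : ∃ k > 0, Nat.card (S : Subgroup G) = p ^ k := by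
      haveI : Nontrivial (S : Subgroup G) := (nontrivial_iff_ne_bot _).2 hS1
      exact S.2.nontrivial_iff_card.1 inferInstance
    exact (hc ▸ dvd_pow_self p hk.ne' : p ∣ Nat.card (S : Subgroup G)).trans (card_dvd_of_le hle)
  · obtain ⟨⟨x, hx⟩, hxo⟩ := exists_prime_orderOf_dvd_card'
      (G := ↥(compStab S ⊓ (compStab S).map (MulAut.conj g).toMonoidHom)) p hdvd
    rw [← Subgroup.orderOf_coe] at hxo
    have hxo' : orderOf x = p := hxo
    have hx1 : x ≠ 1 := fun e => hp.out.one_lt.ne (by rw [← hxo', e, orderOf_one])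
    obtain ⟨hxH, y, hy, hyx⟩ := hx
    have find : ∀ z ∈ compStab S, (∃ k, z ^ p ^ k = 1) →
        ∃ T : Sylow p G, Linked S T ∧ z ∈ (T : Subgroup G) := by
      intro z hz ⟨k, hk⟩
      have hzp : IsPGroup p (zpowers (⟨z, hz⟩ : compStab S)) := by
        intro w
        obtain ⟨i, hi⟩ := w.2
        refine ⟨k, Subtype.ext ?_⟩
        rw [SubmonoidClass.coe_pow, OneMemClass.coe_one, ← hi]
        refine Subtype.ext ?_
        show (((⟨z, hz⟩ : compStab S) ^ i : compStab S) : G) ^ p ^ k = 1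
        rw [Subgroup.coe_zpow, ← zpow_natCast, ← zpow_mul, mul_comm, zpow_mul, zpow_natCast, hk,
          one_zpow]
      obtain ⟨R, hR⟩ := hzp.exists_le_sylow
      obtain ⟨c, hc⟩ := MulAction.exists_smul_eq (compStab S) (S.subtype hle) R
      refine ⟨(c : G) • S, c.2, ?_⟩
      have hzR : (⟨z, hz⟩ : compStab S) ∈ (R : Subgroup (compStab S)) := hR (mem_zpowers _)
      rw [← hc, Sylow.smul_subtype, Sylow.coe_subtype, mem_subgroupOf] at hzR
      exact hzR
    have hxp : x ^ p ^ 1 = 1 := by rw [pow_one, ← hxo, pow_orderOf_eq_one]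
    obtain ⟨T, hT, hxT⟩ := find x hxH ⟨1, hxp⟩
    have hyx' : g * y * g⁻¹ = x := hyx
    obtain ⟨U, hU, hyU⟩ := find y hy ⟨1, by
      have : y = g⁻¹ * x * g := by rw [← hyx']; group
      rw [this, show g⁻¹ * x * g = g⁻¹ * x * (g⁻¹)⁻¹ by group, conj_pow, hxp]; group⟩
    have hxU : x ∈ ((g • U : Sylow p G) : Subgroup G) := by
      rw [← hyx', Sylow.coe_subgroup_smul]
      exact Subgroup.smul_mem_pointwise_smul y (MulAut.conj g) _ hyU
    exact hT.trans ((linked_of_mem hx1 hxT hxU).trans (hU.smul g).symm)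

theorem not_connected_iff :
    ¬ Cfsg.IsSylowChainConnected p G ↔ ∃ H : Subgroup G, ClassicalSE p H :=
  ⟨exists_classicalSE, fun ⟨_, hH⟩ => hH.not_connected⟩

end Cfsg.Agent.Lib.SylowGraph
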